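import Groth.Agent.TorusGal29.Split
import Groth.Agent.AlgGrpLib.TorusToProper
import Groth.Agent.Misc15.GalGroupForms
import Mathlib.CategoryTheory.Adjunction.FullyFaithful

/-! # A torus over an algebraically closed field is split -/

set_option linter.style.haveILetI false
set_option autoImplicit false
set_option backward.isDefEq.respectTransparency.types false
universe u

open CategoryTheory CategoryTheory.Limits MonoidalCategory CartesianMonoidalCategory MonObj AlgebraicGeometry
open scoped TensorProduct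
open CoactBr Groth.Agent.HopfLib.SpPoints

noncomputable section

namespace Groth.Agent.OneMot29

theorem isMonHom_spIso {R : Type u} [CommRing R] {A B : Type u} [CommRing A] [CommRing B] [Bialgebra R A]
    [Bialgebra R B] (e : A ≃ₐc[R] B) : IsMonHom (spIso e.toAlgEquiv).hom := by
  refine isMonHom_pt _ (AlgHom.ext fun a => ?_) (AlgHom.ext fun a => ?_)
  · exact CoalgHomClass.counit_comp_apply (e : A →ₐc[R] B) a
  · exact (CoalgHomClass.map_comp_comul_apply (e : A →ₐc[R] B) a).symm

/-- A torus over an algebraically closed field is split. -/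
theorem exists_split {k : Type u} [Field k] [IsAlgClosed k] (T : Over (Spec (CommRingCat.of k))) [GrpObj T]
    (hT : Red.IsTorus T) :
    ∃ (r : ℕ) (e : T ≅ Red.DS (Spec (CommRingCat.of k)) (Fin r → ℤ)), IsMonHom e.hom := by
  obtain ⟨Ω, _, _, g, r, e, he⟩ := Groth.Agent.AlgGrpLib.TorusToProper.exists_split_point hT
  haveI := he
  refine ⟨r, ?_⟩
  letI : Algebra k Ω := (Spec.preimage g).hom.toAlgebra
  have hg : Spec.map (CommRingCat.ofHom (algebraMap k Ω)) = g := Spec.map_preimage g
  have hsp : Red.IsSplitTorusWith (Fin r → ℤ) (Red.bc (Spec.map (CommRingCat.ofHom (algebraMap k Ω))) T) := by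
    rw [hg]; exact ⟨Grp.mkIso' e⟩
  obtain ⟨A, _, _, i, hi, L, _, _, _, _, N, _, ε, ⟨φ⟩⟩ :=
    TorusGal29.exists_galois_split (n := r) T ⟨Ω, inferInstance, inferInstance, hsp⟩
  haveI := hi
  let σ : k ≃+* L := RingEquiv.ofBijective (algebraMap k L)
    (IsAlgClosed.algebraMap_bijective_of_isIntegral (k := k) (K := L))
  let h : Spec (CommRingCat.of L) ⟶ Spec (CommRingCat.of k) := str k L
  haveI : IsIso (CommRingCat.ofHom (algebraMap k L)) :=
    (ConcreteCategory.isIso_iff_bijective _).2 σ.bijective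
  haveI : IsIso h := inferInstanceAs (IsIso (Spec.map _))
  haveI : (Over.pullback h).IsEquivalence := (Over.mapPullbackAdj h).isEquivalence_right_of_isEquivalence_left
  obtain ⟨d, hd⟩ := exists_dsIso L (Fin r → ℤ)
  obtain ⟨cD, hcD, -⟩ := SGA3cLib.CentralEq.exists_bc_DS h
  haveI := hd
  haveI := hcD (Fin r → ℤ)
  haveI hbc : IsMonHom (bcIso k L A).hom := bcIso_isMonHom k L A
  let ψ : MonoidAlgebra L N ≃ₐc[L] MonoidAlgebra L (Multiplicative (Fin r → ℤ)) :=
    BialgEquiv.ofBijective (MonoidAlgebra.mapDomainBialgHom L ε.toMonoidHom)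
      (Function.bijective_iff_has_inverse.mpr ⟨MonoidAlgebra.mapDomainBialgHom L ε.symm.toMonoidHom,
        fun x => by
          rw [MonoidAlgebra.mapDomainBialgHom_mapDomainBialgHom,
            show ε.symm.toMonoidHom.comp ε.toMonoidHom = MonoidHom.id _ from MonoidHom.ext ε.symm_apply_apply,
            MonoidAlgebra.mapDomainBialgHom_id]
          rfl,
        fun x => by
          rw [MonoidAlgebra.mapDomainBialgHom_mapDomainBialgHom,
            show ε.toMonoidHom.comp ε.symm.toMonoidHom = MonoidHom.id _ from MonoidHom.ext ε.apply_symm_apply,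
            MonoidAlgebra.mapDomainBialgHom_id]
          rfl⟩)
  let b : sp L (MonoidAlgebra L (Multiplicative (Fin r → ℤ))) ≅ sp L (L ⊗[k] A) :=
    spIso (φ.trans ψ).toAlgEquiv
  haveI : IsMonHom b.hom := isMonHom_spIso (φ.trans ψ)
  let E : Red.bc h T ≅ Red.bc h (Red.DS (Spec (CommRingCat.of k)) (Fin r → ℤ)) :=
    (Over.pullback h).mapIso i.symm ≪≫ (bcIso k L A) ≪≫ b.symm ≪≫ d ≪≫ (cD (Fin r → ℤ)).symm
  have hE : IsMonHom E.hom := by
    haveI : IsMonHom (Over.pullback h |>.map i.inv) := inferInstance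
    show IsMonHom ((Over.pullback h).map i.inv ≫ (bcIso k L A).hom ≫ b.inv ≫ d.hom ≫ (cD (Fin r → ℤ)).inv)
    infer_instance
  let e₀ : T ≅ Red.DS (Spec (CommRingCat.of k)) (Fin r → ℤ) := (Over.pullback h).preimageIso E
  have he₀ : (Over.pullback h).map e₀.hom = E.hom := Functor.map_preimage _ _
  refine ⟨e₀, Misc15.GalDescent.isMonHom_of_map (Over.pullback h) e₀.hom ?_⟩
  rw [he₀]
  exact hE

end Groth.Agent.OneMot29
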