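import Groth.Prelude.Def_OneMot
import Groth.Agent.OneMot29.TorusSplit
import Groth.Agent.CommAlg4.PtsLocal
import Groth.Agent.AlgGrpLib.TorusChars
import Groth.Agent.AlgGrpLib.SubgroupCalc
import Groth.Agent.S12381
import Groth.Agent.S12382
import Mathlib.AlgebraicGeometry.Sites.Fpqc

/-! # Extensions of abelian varieties by tori in the sense of sheaves of points -/

set_option linter.style.haveILetI false
set_option autoImplicit false
set_option backward.isDefEq.respectTransparency.types false
universe u

open CategoryTheory CategoryTheory.Limits MonoidalCategory CartesianMonoidalCategory MonObj AlgebraicGeometry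
open Groth.Agent.CommAlg4.PtsLocal

namespace Groth.Agent.OneMot29

variable {S : Scheme.{u}} {T G A : Over S} [GrpObj T] [IsCommMonObj T] [GrpObj G] [IsCommMonObj G]
    [GrpObj A] [IsCommMonObj A] {incl : T ⟶ G} {proj : G ⟶ A} [IsMonHom incl] [IsMonHom proj]
    {w : incl ≫ proj = 1}

theorem mono_incl {K : Precoverage Scheme.{u}} [(QuotSh.J K S).Subcanonical]
    (h : (CGrpSh.seq K incl proj w).ShortExact) : Mono incl := by
  haveI : Mono (CGrpSh.ptsMap K incl) := h.mono_f
  haveI : Mono (CGrpSh.ptsMap K incl).hom :=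
    inferInstanceAs (Mono ((sheafToPresheaf _ _).map (CGrpSh.ptsMap K incl)))
  refine ⟨fun {U} a b hab => ?_⟩
  haveI : Mono ((CGrpSh.ptsMap K incl).hom.app (Opposite.op U)) := inferInstance
  have hinj := (AddCommGrpCat.mono_iff_injective ((CGrpSh.ptsMap K incl).hom.app (Opposite.op U))).1 inferInstance
  have := @hinj (ULift.up (Additive.ofMul a)) (ULift.up (Additive.ofMul b))
    (ULift.ext _ _ (congrArg Additive.ofMul hab))
  exact congrArg (fun z => z.down.toMul) this

theorem isKernel {K : Precoverage Scheme.{u}} [(QuotSh.J K S).Subcanonical]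
    (h : (CGrpSh.seq K incl proj w).ShortExact) : AlgGrp.IsKernel incl proj := by
  haveI := mono_incl h
  refine AlgGrpLib.isKernel_of_points incl proj w fun U g hg => ?_
  have hs := kerSieve_mem incl proj w h.exact g hg
  let v : ∀ ⦃U' : Over S⦄ (f : U' ⟶ U), liftSieve incl g f → (U' ⟶ T) := fun U' f hf => hf.choose
  have hv : ∀ ⦃U' : Over S⦄ (f : U' ⟶ U) (hf : liftSieve incl g f), v f hf ≫ incl = f ≫ g :=
    fun U' f hf => hf.choose_spec
  obtain ⟨a, ha⟩ := exists_glue hs v (fun U' U'' f q hf => by
    rw [← cancel_mono incl, Category.assoc, hv, hv, Category.assoc])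
  refine ⟨a, hom_ext hs fun U' f hf => ?_⟩
  rw [← Category.assoc, ha f hf, hv]

theorem shortExact_fpqc (h : (CGrpSh.seq Scheme.fppfPrecoverage incl proj w).ShortExact) :
    (CGrpSh.seq Scheme.fpqcPrecoverage incl proj w).ShortExact := by
  have hker := isKernel h
  haveI := mono_incl h
  refine @ShortComplex.ShortExact.mk _ _ _ _ ?_ ?_ ?_
  · refine ShortComplex.exact_of_f_is_kernel _ ?_
    have hinj : ∀ (U : Over S) (a b : U ⟶ T), a ≫ incl = b ≫ incl → a = b := fun U a b e => (cancel_mono incl).mp e
    refine KernelFork.IsLimit.ofι _ _ (fun {W} k hk => ⟨{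
      app := fun U => AddCommGrpCat.ofHom {
        toFun := fun x => ULift.up (Additive.ofMul (hker.lift (k.hom.app U x).down.toMul (toUnit _) (by
          have h := congrArg (fun φ => (φ.hom.app U x).down.toMul) hk
          change (k.hom.app U x).down.toMul ≫ proj = 1 at h
          rw [h, Hom.one_def])))
        map_zero' := by
          apply ULift.ext
          apply hinj (U.unop)
          change hker.lift _ _ _ ≫ incl = (1 : U.unop ⟶ T) ≫ incl
          rw [IsPullback.lift_fst, MonObj.one_comp, map_zero]
          rfl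
        map_add' := fun x y => by
          apply ULift.ext
          apply hinj (U.unop)
          change hker.lift _ _ _ ≫ incl = (hker.lift _ _ _ * hker.lift _ _ _) ≫ incl
          rw [IsPullback.lift_fst, MonObj.mul_comp, IsPullback.lift_fst, IsPullback.lift_fst, map_add]
          rfl }
      naturality := fun U U' g => AddCommGrpCat.ext fun x => ULift.ext _ _ (hinj U'.unop _ _ (by
          change hker.lift _ _ _ ≫ incl = (g.unop ≫ hker.lift _ _ _) ≫ incl
          rw [IsPullback.lift_fst, Category.assoc, IsPullback.lift_fst]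
          exact congrArg (fun (z : (CGrpSh.pts Scheme.fpqcPrecoverage G).obj.obj U') => z.down.toMul)
            (ConcreteCategory.congr_hom (k.hom.naturality g) x))) }⟩) (fun {W} k hk => ?_)
      (fun {W} k hk m hm => ?_)
    · ext U x
      apply ULift.ext
      exact hker.lift_fst _ _ _
    · ext U x
      apply ULift.ext
      apply hinj U.unop
      change _ = hker.lift _ _ _ ≫ incl
      rw [IsPullback.lift_fst]
      exact congrArg (fun φ => (φ.hom.app U x).down.toMul) hm
  · haveI : ∀ U, Mono ((CGrpSh.ptsMap Scheme.fpqcPrecoverage incl).hom.app U) := fun U => by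
      rw [AddCommGrpCat.mono_iff_injective]
      intro x y e
      have := congrArg (fun z : (CGrpSh.pts Scheme.fpqcPrecoverage G).obj.obj U => z.down.toMul) e
      exact ULift.ext _ _ ((cancel_mono incl).mp this)
    haveI : Mono (CGrpSh.ptsMap Scheme.fpqcPrecoverage incl).hom := NatTrans.mono_of_mono_app _
    exact (sheafToPresheaf (QuotSh.J Scheme.fpqcPrecoverage S) AddCommGrpCat.{u + 1}).mono_of_mono_map this
  · refine (Sheaf.isLocallySurjective_iff_epi' (A := AddCommGrpCat.{u + 1}) _).1 ⟨fun {U} s => ?_⟩
    have hmem := liftSieve_mem (K := Scheme.fppfPrecoverage) proj h.epi_g (T := U) s.down.toMul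
    have hmem' : liftSieve proj s.down.toMul ∈ QuotSh.J Scheme.fpqcPrecoverage S U := by
      change Sieve.overEquiv U _ ∈ Scheme.fpqcTopology U.left
      exact Scheme.fppfTopology_le_fpqcTopology _ hmem
    refine GrothendieckTopology.superset_covering _ ?_ hmem'
    rintro U' f ⟨x, hx⟩
    exact ⟨ULift.up (Additive.ofMul x), ULift.ext _ _ (congrArg Additive.ofMul hx)⟩

variable {k : Type u} [Field k] [IsAlgClosed k]

/-- The structure of a semi-abelian variety presented as an extension of sheaves. -/
theorem structure_of_semiAb {T G A : Over (Spec (CommRingCat.of k))} [GrpObj T] [IsCommMonObj T] [GrpObj G]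
    [IsCommMonObj G] [GrpObj A] [IsCommMonObj A] {incl : T ⟶ G} {proj : G ⟶ A} [IsMonHom incl] [IsMonHom proj]
    (h : OneMot.IsSemiAbWith T G A incl proj) :
    AlgGrp.IsKernel incl proj ∧ Flat proj.left ∧ Surjective proj.left ∧ LocallyOfFiniteType G.hom ∧
      QuasiCompact G.hom := by
  obtain ⟨r, e, he⟩ := exists_split T h.torus
  obtain ⟨hsm, -, haff⟩ := AlgGrpLib.TorusChars.smooth_connected e
  haveI := hsm
  haveI := haff
  haveI : IsAffineHom T.hom := inferInstance
  haveI := h.abelian.proper
  have hfp := shortExact_fpqc h.shortExact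
  obtain ⟨G', _, _, f', p', _, _, ee, -, hp1, hp2, -, hl, hq, -, -, hpr⟩ :=
    Groth.Agent.S12381.result T A (CGrpSh.pts Scheme.fpqcPrecoverage G) (CGrpSh.ptsMap _ incl)
      (CGrpSh.ptsMap _ proj) (CGrpSh.seq Scheme.fpqcPrecoverage incl proj h.comp).zero hfp
  obtain ⟨g, hg⟩ := Groth.Agent.S12382.aux_full ee.hom
  obtain ⟨g', hg'⟩ := Groth.Agent.S12382.aux_full ee.inv
  have hgg' : g ≫ g' = 𝟙 G' := by
    have := congrArg (fun φ => (φ.hom.app (Opposite.op G')
      (ULift.up (Additive.ofMul (𝟙 G')))).down.toMul) ee.hom_inv_id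
    simp only [ObjectProperty.FullSubcategory.comp_hom, NatTrans.comp_app, ConcreteCategory.comp_apply, hg', hg] at this
    simpa using this
  have hg'g : g' ≫ g = 𝟙 G := by
    have := congrArg (fun φ => (φ.hom.app (Opposite.op G)
      (ULift.up (Additive.ofMul (𝟙 G)))).down.toMul) ee.inv_hom_id
    simp only [ObjectProperty.FullSubcategory.comp_hom, NatTrans.comp_app, ConcreteCategory.comp_apply, hg', hg] at this
    simpa using this
  have hgp : g ≫ proj = p' := by
    have := congrArg (fun φ => (φ.hom.app (Opposite.op G')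
      (ULift.up (Additive.ofMul (𝟙 G')))).down.toMul) hpr
    simp only [ObjectProperty.FullSubcategory.comp_hom, NatTrans.comp_app, ConcreteCategory.comp_apply] at this
    change ((ee.hom.hom.app _ (ULift.up (Additive.ofMul (𝟙 G')))).down.toMul) ≫ proj = 𝟙 G' ≫ p' at this
    rw [hg] at this
    simpa using this
  let E : G' ≅ G := ⟨g, g', hgg', hg'g⟩
  haveI : IsIso g.left := inferInstanceAs (IsIso ((Over.forget _).mapIso E).hom)
  haveI : IsIso g'.left := inferInstanceAs (IsIso ((Over.forget _).mapIso E).inv)
  have hproj : proj = g' ≫ p' := by rw [← hgp, reassoc_of% hg'g]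
  haveI := hp1; haveI := hp2; haveI := hl; haveI := hq
  refine ⟨isKernel h.shortExact, ?_, ?_, ?_, ?_⟩
  · rw [hproj, Over.comp_left]; infer_instance
  · rw [hproj, Over.comp_left]; infer_instance
  · rw [← Over.w g']; infer_instance
  · rw [← Over.w g']; infer_instance

end Groth.Agent.OneMot29
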