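import Groth.Prelude.Def_OneMot
import Groth.Agent.Et18.ConstMaps
import Groth.Agent.Et18.ConstGrpRigid
import Groth.Agent.SGA3cLib.GrpBC
import Groth.Agent.AbCubeLib.Subvariety

/-! # Lattices over an algebraically closed field -/

set_option linter.style.haveILetI false
set_option autoImplicit false
set_option backward.isDefEq.respectTransparency.types false
universe u

open CategoryTheory CategoryTheory.Limits MonoidalCategory CartesianMonoidalCategory MonObj AlgebraicGeometry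
open Groth.Agent.AbCubeLib

namespace Groth.Agent.OneMot29

variable {k : Type u} [Field k] [IsAlgClosed k]

local notation "𝟏" => (𝟙_ (Over (Spec (CommRingCat.of k))))

theorem exists_ulift {S : Scheme.{u}} {Z : Type} [Group Z] {G : Over S} [GrpObj G] (e : G ≅ TwC.const S Z)
    (he : TwC.IsConstGrp Z G e) :
    ∃ e' : G ≅ TwC.const S (ULift.{u} Z), TwC.IsConstGrp (ULift.{u} Z) G e' := by
  let cι : TwC.const S Z ≅ TwC.const S (ULift.{u} Z) :=
    { hom := TwC.constMap S ULift.up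
      inv := TwC.constMap S ULift.down
      hom_inv_id := Over.OverMorphism.ext (Sigma.hom_ext _ _ fun m => by simp [TwC.constMap])
      inv_hom_id := Over.OverMorphism.ext (Sigma.hom_ext _ _ fun m => by simp [TwC.constMap]) }
  refine ⟨e ≪≫ cι, fun m n => ?_⟩
  have h : ∀ z : ULift.{u} Z, TwC.pt S (ULift.{u} Z) z ≫ (e ≪≫ cι).inv = TwC.pt S Z z.down ≫ e.inv := fun z => by
    rw [Iso.trans_inv, ← Category.assoc]
    congr 1
    exact Over.OverMorphism.ext (by simp [cι, TwC.constMap, TwC.pt])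
  rw [h, h, h]
  exact he m.down n.down

/-- A lattice over an algebraically closed field is constant. -/
theorem exists_const (L : Over (Spec (CommRingCat.of k))) [GrpObj L] (hL : OneMot.IsLattice L) :
    ∃ (r : ℕ) (e : L ≅ TwC.const (Spec (CommRingCat.of k)) (ULift.{u} (Multiplicative (Fin r → ℤ)))),
      TwC.IsConstGrp (ULift.{u} (Multiplicative (Fin r → ℤ))) L e := by
  obtain ⟨S', f, hf, ⟨s, hs⟩, r, e, he⟩ := hL (IsLocalRing.closedPoint k)
  haveI := hf
  obtain ⟨e, he⟩ := exists_ulift e he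
  haveI : LocallyOfFiniteType (Over.mk f).hom := inferInstanceAs (LocallyOfFiniteType f)
  have : JacobsonSpace S' := LocallyOfFiniteType.jacobsonSpace f
  obtain ⟨v, -, hv⟩ := nonempty_inter_closedPoints (X := S') (Z := Set.univ) ⟨s, trivial⟩ isClosed_univ.isLocallyClosed
  obtain ⟨x, -⟩ := exists_ptOf (A := Over.mk f) (x := v) (mem_closedPoints_iff.1 hv)
  let σ : Spec (CommRingCat.of k) ⟶ S' := x.left
  have hσ : σ ≫ f = 𝟙 _ := Over.w x
  obtain ⟨e', he'⟩ := Et18.ConstMaps.exists_isConstGrp_bc e he σ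
  let α : Over.pullback f ⋙ Over.pullback σ ≅ 𝟭 _ :=
    SGA3cLib.GrpBC.bcCongr f σ (𝟙 _) hσ ≪≫ Over.pullbackId
  let a : Red.bc σ (Red.bc f L) ≅ L := α.app L
  haveI : IsMonHom a.hom := (SGA3cLib.GrpBC.isMonHom_app α L).1
  refine ⟨r, a.symm ≪≫ e', fun m n => ?_⟩
  let Z := ULift.{u} (Multiplicative (Fin r → ℤ))
  show (TwC.pt (Spec (CommRingCat.of k)) Z m ≫ e'.inv ≫ a.hom) * (TwC.pt (Spec (CommRingCat.of k)) Z n ≫ e'.inv ≫ a.hom) =
    TwC.pt (Spec (CommRingCat.of k)) Z (m * n) ≫ e'.inv ≫ a.hom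
  rw [← Category.assoc, ← Category.assoc, ← MonObj.mul_comp, he', Category.assoc]

/-- The points of a lattice, and morphisms out of it. -/
theorem exists_data (L : Over (Spec (CommRingCat.of k))) [GrpObj L] (hL : OneMot.IsLattice L) :
    ∃ (r : ℕ) (θ : Multiplicative (Fin r → ℤ) ≃* (𝟏 ⟶ L)),
      ∀ (X : Over (Spec (CommRingCat.of k))) (p : (𝟏 ⟶ L) → (𝟏 ⟶ X)), ∃! g : L ⟶ X, ∀ l, l ≫ g = p l := by
  obtain ⟨r, e, he⟩ := exists_const L hL
  let Z := ULift.{u} (Multiplicative (Fin r → ℤ))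
  let S := Spec (CommRingCat.of k)
  let c : Z →* (𝟏 ⟶ L) := MonoidHom.mk' (fun m => TwC.pt S Z m ≫ e.inv) fun m n => (he m n).symm
  have hinj : Function.Injective c := fun m n h => by
    have h' : TwC.pt S Z m = TwC.pt S Z n := (cancel_mono e.inv).1 h
    refine Et18.ConstGrp.index_unique (S := S) (Z := Z) (m := m) (n := n)
      (y := (TwC.pt S Z m).left (IsLocalRing.closedPoint k)) ⟨_, rfl⟩ ?_
    rw [h']
    exact ⟨_, rfl⟩
  haveI : Subsingleton ↥(Spec (CommRingCat.of k)) := inferInstanceAs (Subsingleton (PrimeSpectrum k))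
  have hsurj : Function.Surjective c := fun l => by
    obtain ⟨m, hm⟩ : ∃ m, (l ≫ e.hom).left (IsLocalRing.closedPoint k) ∈ Set.range (Sigma.ι (fun _ : Z => S) m) :=
      ⟨_, (sigmaOpenCover (fun _ : Z => S)).covers _⟩
    refine ⟨m, ?_⟩
    have h1 : Set.range (l ≫ e.hom).left ⊆ Set.range (Sigma.ι (fun _ : Z => S) m) := by
      rintro _ ⟨y, rfl⟩
      obtain rfl : y = IsLocalRing.closedPoint k := Subsingleton.elim (α := ↥(Spec (CommRingCat.of k))) _ _
      exact hm
    let q := IsOpenImmersion.lift (Sigma.ι (fun _ : Z => S) m) (l ≫ e.hom).left h1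
    have hq : q ≫ Sigma.ι (fun _ : Z => S) m = (l ≫ e.hom).left := IsOpenImmersion.lift_fac _ _ _
    have hq1 : q = 𝟙 _ := by
      have := Over.w (l ≫ e.hom)
      rw [← hq, Category.assoc] at this
      erw [Sigma.ι_desc, Category.comp_id] at this
      exact this
    show TwC.pt S Z m ≫ e.inv = l
    rw [← cancel_mono e.hom, Category.assoc, Iso.inv_hom_id, Category.comp_id]
    refine Over.OverMorphism.ext ?_
    rw [← hq, hq1]
    exact (Category.id_comp _).symm
  refine ⟨r, MulEquiv.ulift.symm.trans (MulEquiv.ofBijective c ⟨hinj, hsurj⟩), fun X p => ?_⟩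
  let g₀ : TwC.const S Z ⟶ X := Over.homMk (Sigma.desc fun m => (p (c m)).left) (Sigma.hom_ext _ _ fun m => by
    rw [Sigma.ι_desc_assoc]
    exact (Over.w (p (c m))).trans (by erw [Sigma.ι_desc]; rfl))
  refine ⟨e.hom ≫ g₀, fun l => ?_, fun g hg => ?_⟩
  · obtain ⟨m, rfl⟩ := hsurj l
    show (TwC.pt S Z m ≫ e.inv) ≫ e.hom ≫ g₀ = p (c m)
    rw [Category.assoc, Iso.inv_hom_id_assoc]
    refine Over.OverMorphism.ext ?_
    show Sigma.ι (fun _ : Z => S) m ≫ Sigma.desc _ = _
    rw [Sigma.ι_desc]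
  · rw [← cancel_epi e.inv, Iso.inv_hom_id_assoc]
    refine Over.OverMorphism.ext (Sigma.hom_ext _ _ fun m => ?_)
    show Sigma.ι (fun _ : Z => S) m ≫ _ = Sigma.ι (fun _ : Z => S) m ≫ Sigma.desc (fun m => (p (c m)).left)
    rw [Sigma.ι_desc, ← hg (c m)]
    show _ = ((TwC.pt S Z m ≫ e.inv) ≫ g).left
    simp only [Over.comp_left, Category.assoc]
    rfl

/-- A subgroup of a free module of finite rank meeting every class modulo every `n` is everything. -/
theorem eq_top_of_dense {r : ℕ} (Y : Submodule ℤ (Fin r → ℤ))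
    (hY : ∀ n : ℕ, 0 < n → ∀ v, ∃ y ∈ Y, ∃ w, v = y + n • w) : Y = ⊤ := by
  by_contra hne
  obtain ⟨Y', hY', hYY'⟩ := (eq_top_or_exists_le_coatom Y).resolve_left hne
  let Q := (Fin r → ℤ) ⧸ Y'
  haveI : IsSimpleModule ℤ Q := isSimpleModule_iff_isCoatom.2 hY'
  haveI : Nontrivial Q := IsSimpleModule.nontrivial ℤ Q
  haveI : Finite Q := by
    haveI : AddGroup.FG Q := Module.Finite.iff_addGroup_fg.mp (inferInstanceAs (Module.Finite ℤ ((Fin r → ℤ) ⧸ Y')))
    refine AddCommGroup.finite_of_fg_isAddTorsion Q fun x => ?_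
    by_cases hx : x = 0
    · subst hx; exact IsOfFinAddOrder.zero
    by_cases h2 : (2 : ℤ) • x = 0
    · exact isOfFinAddOrder_iff_zsmul_eq_zero.2 ⟨2, two_ne_zero, h2⟩
    obtain ⟨a, ha⟩ := Submodule.mem_span_singleton.1
      ((IsSimpleModule.span_singleton_eq_top ℤ (m := (2 : ℤ) • x) h2).ge (Submodule.mem_top (x := x)))
    refine isOfFinAddOrder_iff_zsmul_eq_zero.2 ⟨2 * a - 1, by omega, ?_⟩
    rw [sub_smul, one_smul, mul_comm, mul_smul, ha, sub_self]
  obtain ⟨q, hq⟩ := exists_ne (0 : Q)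
  obtain ⟨v, rfl⟩ := Submodule.mkQ_surjective Y' q
  obtain ⟨y, hy, w, rfl⟩ := hY (Nat.card Q) Nat.card_pos v
  refine hq ?_
  rw [map_add, map_nsmul, card_nsmul_eq_zero', add_zero]
  exact (Submodule.Quotient.mk_eq_zero Y').2 (hYY' hy)

end Groth.Agent.OneMot29
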