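import Groth.Agent.OneMot29.Points
import Groth.Agent.OneMot29.Lattice

/-! # Torsion realizations detect morphisms and isomorphisms of one-motives -/

set_option linter.style.haveILetI false
set_option autoImplicit false
set_option backward.isDefEq.respectTransparency.types false
universe u

open CategoryTheory CategoryTheory.Limits MonoidalCategory CartesianMonoidalCategory MonObj AlgebraicGeometry

namespace Groth.Agent.OneMot29

variable {k : Type u} [Field k]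

local notation "𝟏" => (𝟙_ (Over (Spec (CommRingCat.of k))))

section Elements

variable {M N : OneMot.Motive (Spec (CommRingCat.of k))} {m : ℕ}

/-- The class of a pair. -/
noncomputable def cls (x : 𝟏 ⟶ M.L) (g : 𝟏 ⟶ M.G) (h : x ≫ M.u = (g ^ m)⁻¹) : OneMot.tzPairs M m 𝟏 ⧸ OneMot.tzRel M m 𝟏 :=
  QuotientAddGroup.mk (⟨(Additive.ofMul x, Additive.ofMul g), congrArg Additive.ofMul h⟩ : OneMot.tzPairs M m 𝟏)

theorem cls_surjective (z : OneMot.tzPairs M m 𝟏 ⧸ OneMot.tzRel M m 𝟏) : ∃ x g h, cls (M := M) (m := m) x g h = z := by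
  obtain ⟨⟨⟨x, g⟩, h⟩, rfl⟩ := QuotientAddGroup.mk_surjective z
  exact ⟨x.toMul, g.toMul, congrArg Additive.toMul h, rfl⟩

theorem cls_eq_iff (x x' : 𝟏 ⟶ M.L) (g g' : 𝟏 ⟶ M.G) (h : x ≫ M.u = (g ^ m)⁻¹) (h' : x' ≫ M.u = (g' ^ m)⁻¹) :
    cls x g h = cls x' g' h' ↔ ∃ y : 𝟏 ⟶ M.L, y ^ m = x * x'⁻¹ ∧ (y ≫ M.u)⁻¹ = g * g'⁻¹ := by
  rw [cls, cls, QuotientAddGroup.eq_iff_sub_mem]
  show (∃ y : Additive (𝟏 ⟶ M.L), _ = _) ↔ _
  constructor
  · rintro ⟨y, hy⟩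
    refine ⟨y.toMul, (congrArg (fun p => p.1.toMul) hy).trans (div_eq_mul_inv x x'), ?_⟩
    exact (congrArg (fun p => p.2.toMul) hy).trans (div_eq_mul_inv g g')
  · rintro ⟨y, h1, h2⟩
    refine ⟨Additive.ofMul y, Prod.ext ?_ ?_⟩
    · exact congrArg Additive.ofMul (h1.trans (div_eq_mul_inv x x').symm)
    · exact congrArg Additive.ofMul (h2.trans (div_eq_mul_inv g g').symm)

theorem map_cls (f : OneMot.Motive.Hom M N) (x : 𝟏 ⟶ M.L) (g : 𝟏 ⟶ M.G) (h : x ≫ M.u = (g ^ m)⁻¹)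
    (h' : (x ≫ f.fL) ≫ N.u = ((g ≫ f.fG) ^ m)⁻¹) :
    OneMot.tzMap m 𝟏 f (cls x g h) = cls (x ≫ f.fL) (g ≫ f.fG) h' := rfl

theorem map_hyp (f : OneMot.Motive.Hom M N) {x : 𝟏 ⟶ M.L} {g : 𝟏 ⟶ M.G} (h : x ≫ M.u = (g ^ m)⁻¹) :
    (x ≫ f.fL) ≫ N.u = ((g ≫ f.fG) ^ m)⁻¹ := by
  rw [Category.assoc, ← f.comm, ← Category.assoc, h, GrpObj.inv_comp, AbCubeLib.pow_comp_hom]

theorem one_hyp {g : 𝟏 ⟶ M.G} (hg : g ^ m = 1) : (1 : 𝟏 ⟶ M.L) ≫ M.u = (g ^ m)⁻¹ := by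
  rw [MonObj.one_comp, hg, inv_one]

end Elements

variable [IsAlgClosed k] (M : OneMot.Motive (Spec (CommRingCat.of k)))

theorem eq_one_of_forall_exists_pow {x : 𝟏 ⟶ M.L} (h : ∀ n : ℕ, 0 < n → ∃ y, y ^ n = x) : x = 1 := by
  obtain ⟨r, θ, -⟩ := exists_data M.L M.lattice
  suffices θ.symm x = 1 by simpa using congrArg θ this
  refine Multiplicative.toAdd.injective (funext fun i => ?_)
  obtain ⟨y, hy⟩ := h ((Multiplicative.toAdd (θ.symm x) i).natAbs + 1) (Nat.succ_pos _)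
  have h' := congrFun (congrArg (fun z => Multiplicative.toAdd (θ.symm z)) hy) i
  simp only [map_pow, toAdd_pow, Pi.smul_apply, nsmul_eq_mul] at h'
  show Multiplicative.toAdd (θ.symm x) i = 0
  refine Int.eq_zero_of_abs_lt_dvd (Dvd.intro _ h') ?_
  rw [Int.abs_eq_natAbs]
  push_cast
  omega

theorem eq_one_of_pow {x : 𝟏 ⟶ M.L} {n : ℕ} (hn : 0 < n) (h : x ^ n = 1) : x = 1 := by
  obtain ⟨r, θ, -⟩ := exists_data M.L M.lattice
  suffices θ.symm x = 1 by simpa using congrArg θ this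
  refine Multiplicative.toAdd.injective (funext fun i => ?_)
  have h' := congrFun (congrArg (fun z => Multiplicative.toAdd (θ.symm z)) h) i
  simp only [map_pow, toAdd_pow, Pi.smul_apply, nsmul_eq_mul, map_one, toAdd_one, Pi.zero_apply, mul_eq_zero,
    Nat.cast_eq_zero] at h'
  exact h'.resolve_left hn.ne'

theorem hom_ext_L {X : Over (Spec (CommRingCat.of k))} {a b : M.L ⟶ X} (h : ∀ l : 𝟏 ⟶ M.L, l ≫ a = l ≫ b) :
    a = b := by
  obtain ⟨r, θ, hθ⟩ := exists_data M.L M.lattice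
  exact (hθ X fun l => l ≫ b).unique h fun l => rfl

theorem exists_hyp (x : 𝟏 ⟶ M.L) {m : ℕ} (hm : 0 < m) : ∃ g : 𝟏 ⟶ M.G, x ≫ M.u = (g ^ m)⁻¹ := by
  obtain ⟨g, hg⟩ := exists_pow_eq M.semiAb (x ≫ M.u)⁻¹ hm
  exact ⟨g, by rw [hg, inv_inv]⟩

variable {M} [CharZero k] {N : OneMot.Motive (Spec (CommRingCat.of k))}

theorem finiteType_G (M : OneMot.Motive (Spec (CommRingCat.of k))) :
    LocallyOfFiniteType M.G.hom ∧ QuasiCompact M.G.hom ∧ Smooth M.G.hom := by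
  obtain ⟨-, -, -, hl, hq⟩ := structure_of_semiAb M.semiAb
  haveI := hl
  exact ⟨hl, hq, HopfLib.smooth_of_grpObj M.G⟩

/-- Equal torsion realizations give equal morphisms. -/
theorem hom_eq (f g : OneMot.Motive.Hom M N)
    (h : ∀ m : ℕ, 1 ≤ m → OneMot.tzMap m 𝟏 f = OneMot.tzMap m 𝟏 g) : f = g := by
  obtain ⟨_, _, _⟩ := finiteType_G M
  obtain ⟨_, _, _⟩ := finiteType_G N
  have key : ∀ (m : ℕ) (hm : 0 < m) (x : 𝟏 ⟶ M.L) (c : 𝟏 ⟶ M.G) (hx : x ≫ M.u = (c ^ m)⁻¹),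
      ∃ y : 𝟏 ⟶ N.L, y ^ m = (x ≫ f.fL) * (x ≫ g.fL)⁻¹ ∧ (y ≫ N.u)⁻¹ = (c ≫ f.fG) * (c ≫ g.fG)⁻¹ := by
    intro m hm x c hx
    have := DFunLike.congr_fun (h m hm) (cls x c hx)
    rw [map_cls f x c hx (map_hyp f hx), map_cls g x c hx (map_hyp g hx)] at this
    exact (cls_eq_iff _ _ _ _ _ _).1 this
  refine OneMot.Motive.Hom.ext' (hom_ext_L M fun x => ?_) ?_
  · refine mul_inv_eq_one.1 (eq_one_of_forall_exists_pow N fun m hm => ?_)
    obtain ⟨c, hc⟩ := exists_hyp M x hm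
    obtain ⟨y, hy, -⟩ := key m hm x c hc
    exact ⟨y, hy⟩
  · let d : M.G ⟶ N.G := f.fG * g.fG⁻¹
    haveI : IsMonHom d := by
      have hmul : ∀ {T : Over (Spec (CommRingCat.of k))} (a b : T ⟶ M.G), (a * b) ≫ d = (a ≫ d) * (b ≫ d) := fun a b => by
        simp only [d, MonObj.comp_mul, GrpObj.comp_inv, MonObj.mul_comp, mul_inv_rev]
        rw [mul_comm (b ≫ g.fG)⁻¹, _root_.mul_mul_mul_comm]
      exact AlgGrpLib.MultTypeAct.isMonHom_of_map_mul d hmul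
    obtain ⟨K, _, i, hi, hci, hsm, hqc, hk⟩ := exists_kernel d
    haveI := hi; haveI := hci; haveI := hsm; haveI := hqc
    haveI : Surjective i.left := surjective_of_torsion M.semiAb i fun c hc => by
      obtain ⟨n, hn, hcn⟩ := isOfFinOrder_iff_pow_eq_one.1 hc
      obtain ⟨y, hy, hy'⟩ := key n hn 1 c (one_hyp hcn)
      rw [MonObj.one_comp, MonObj.one_comp, inv_one, _root_.mul_one] at hy
      rw [eq_one_of_pow N hn hy, MonObj.one_comp, inv_one] at hy'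
      exact AlgGrpLib.exists_lift_kernel hk (show c ≫ d = 1 by rw [MonObj.comp_mul, GrpObj.comp_inv, ← hy'])
    haveI : Mono i := AlgGrpLib.kernel_mono hk
    haveI : IsIso i := isIso_of_bijective i fun x hx => by rwa [← cancel_mono i, MonObj.one_comp]
    have hd : d = 1 := by rw [← cancel_epi i, AlgGrpLib.kernel_comp hk, MonObj.comp_one]
    exact mul_inv_eq_one.1 hd

/-- Bijective torsion realizations give isomorphisms. -/
theorem hom_isIso (f : OneMot.Motive.Hom M N)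
    (h : ∀ m : ℕ, 1 ≤ m → Function.Bijective (OneMot.tzMap m 𝟏 f)) : f.IsIso := by
  obtain ⟨_, _, _⟩ := finiteType_G M
  obtain ⟨_, _, _⟩ := finiteType_G N
  have hinj : ∀ (m : ℕ) (hm : 0 < m) (x : 𝟏 ⟶ M.L) (c : 𝟏 ⟶ M.G) (hx : x ≫ M.u = (c ^ m)⁻¹),
      x ≫ f.fL = 1 → c ≫ f.fG = 1 → ∃ y : 𝟏 ⟶ M.L, y ^ m = x ∧ (y ≫ M.u)⁻¹ = c := by
    intro m hm x c hx h1 h2
    have h0 : cls x c hx = cls 1 1 (one_hyp (one_pow m)) := (h m hm).1 (by
      rw [map_cls f x c hx (map_hyp f hx), map_cls f 1 1 _ (map_hyp f (one_hyp (one_pow m))), cls_eq_iff]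
      exact ⟨1, by simp [h1, MonObj.one_comp], by simp [h2, MonObj.one_comp]⟩)
    obtain ⟨y, hy, hy'⟩ := (cls_eq_iff _ _ _ _ _ _).1 h0
    exact ⟨y, by simpa using hy, by simpa using hy'⟩
  -- torsion points are not killed
  have htors : ∀ c : 𝟏 ⟶ M.G, IsOfFinOrder c → c ≫ f.fG = 1 → c = 1 := by
    intro c hc hc1
    obtain ⟨n, hn, hcn⟩ := isOfFinOrder_iff_pow_eq_one.1 hc
    obtain ⟨y, hy, hy'⟩ := hinj n hn 1 c (one_hyp hcn) (MonObj.one_comp _) hc1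
    rw [eq_one_of_pow M hn hy, MonObj.one_comp, inv_one] at hy'
    exact hy'.symm
  have hGinj : ∀ c : 𝟏 ⟶ M.G, c ≫ f.fG = 1 → c = 1 := by
    intro c hc
    obtain ⟨K, _, i, hi, hci, hsm, hqc, hk⟩ := exists_kernel f.fG
    haveI := hi; haveI := hci; haveI := hsm; haveI := hqc
    obtain ⟨x, rfl⟩ := AlgGrpLib.exists_lift_kernel hk hc
    exact points_eq_one M.semiAb i (fun y hy => htors _ hy (by
      rw [Category.assoc, AlgGrpLib.kernel_comp hk, MonObj.comp_one])) x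
  have hLinj : ∀ x : 𝟏 ⟶ M.L, x ≫ f.fL = 1 → x = 1 := by
    intro x hx
    have hu : x ≫ M.u = 1 := hGinj _ (by
      rw [Category.assoc, f.comm, ← Category.assoc, hx, MonObj.one_comp])
    refine eq_one_of_forall_exists_pow M fun m hm => ?_
    obtain ⟨y, hy, -⟩ := hinj m hm x 1 (by rw [hu, one_pow, inv_one]) hx (MonObj.one_comp _)
    exact ⟨y, hy⟩
  have hLsurj : ∀ x' : 𝟏 ⟶ N.L, ∃ x : 𝟏 ⟶ M.L, x ≫ f.fL = x' := by
    obtain ⟨r, θ, -⟩ := exists_data N.L N.lattice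
    let Y : Submodule ℤ (Fin r → ℤ) := AddSubgroup.toIntSubmodule
      { carrier := {v | ∃ x : 𝟏 ⟶ M.L, x ≫ f.fL = θ (Multiplicative.ofAdd v)}
        zero_mem' := ⟨1, by rw [ofAdd_zero, map_one, MonObj.one_comp]⟩
        add_mem' := fun {a b} ⟨x, hx⟩ ⟨y, hy⟩ => ⟨x * y, by rw [ofAdd_add, map_mul, MonObj.mul_comp, hx, hy]⟩
        neg_mem' := fun {a} ⟨x, hx⟩ => ⟨x⁻¹, by rw [ofAdd_neg, map_inv, GrpObj.inv_comp, hx]⟩ }
    have hY : Y = ⊤ := eq_top_of_dense Y fun n hn v => by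
      obtain ⟨c, hc⟩ := exists_hyp N (θ (Multiplicative.ofAdd v)) hn
      obtain ⟨z, hz⟩ := (h n hn).2 (cls _ c hc)
      obtain ⟨x, g, hxg, rfl⟩ := cls_surjective z
      rw [map_cls f x g hxg (map_hyp f hxg), cls_eq_iff] at hz
      obtain ⟨y, hy, -⟩ := hz
      refine ⟨Multiplicative.toAdd (θ.symm (x ≫ f.fL)), ⟨x, by simp⟩,
        -Multiplicative.toAdd (θ.symm y), ?_⟩
      have h' := congrArg (fun z => Multiplicative.toAdd (θ.symm z)) hy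
      simp only [map_pow, toAdd_pow, map_mul, map_inv, toAdd_mul, toAdd_inv, MulEquiv.symm_apply_apply,
        toAdd_ofAdd] at h'
      rw [smul_neg, h']
      abel
    intro x'
    obtain ⟨x, hx⟩ := (hY.ge Submodule.mem_top : Multiplicative.toAdd (θ.symm x') ∈ Y)
    exact ⟨x, by simpa using hx⟩
  have hGtors : ∀ c' : 𝟏 ⟶ N.G, IsOfFinOrder c' → ∃ c : 𝟏 ⟶ M.G, c ≫ f.fG = c' := by
    intro c' hc'
    obtain ⟨n, hn, hcn⟩ := isOfFinOrder_iff_pow_eq_one.1 hc'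
    obtain ⟨z, hz⟩ := (h n hn).2 (cls 1 c' (one_hyp hcn))
    obtain ⟨x, g, hxg, rfl⟩ := cls_surjective z
    rw [map_cls f x g hxg (map_hyp f hxg), cls_eq_iff] at hz
    obtain ⟨y', -, hy'⟩ := hz
    obtain ⟨y, rfl⟩ := hLsurj y'
    refine ⟨g * (y ≫ M.u), ?_⟩
    rw [MonObj.mul_comp, Category.assoc, f.comm, ← Category.assoc]
    rw [inv_eq_iff_eq_inv, mul_inv_rev, inv_inv] at hy'
    rw [hy', mul_left_comm, mul_inv_cancel, _root_.mul_one]
  haveI : Surjective f.fG.left := surjective_of_torsion N.semiAb f.fG hGtors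
  refine ⟨?_, isIso_of_bijective f.fG hGinj⟩
  obtain ⟨r, θ, hθ⟩ := exists_data N.L N.lattice
  choose p hp using hLsurj
  obtain ⟨q, hq, -⟩ := hθ M.L p
  refine ⟨q, hom_ext_L M fun x => ?_, hom_ext_L N fun x => ?_⟩
  · rw [Category.comp_id, ← Category.assoc, hq]
    refine mul_inv_eq_one.1 (hLinj _ ?_)
    rw [MonObj.mul_comp, GrpObj.inv_comp, hp, mul_inv_cancel]
  · rw [Category.comp_id, ← Category.assoc, hq, hp]

end Groth.Agent.OneMot29
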