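import Groth.Agent.OneMot29.TorusSplit
import Groth.Agent.AlgGrpLib.TorusChars
import Groth.Agent.AbCubeLib.Subvariety
import Mathlib.LinearAlgebra.LinearIndependent.Lemmas
import Mathlib.RingTheory.RootsOfUnity.AlgebraicallyClosed
import Mathlib.GroupTheory.SpecificGroups.Cyclic
import Mathlib.RingTheory.SimpleModule.Basic

/-! # Subgroups of the rational points of a split torus -/

set_option linter.style.haveILetI false
set_option autoImplicit false
set_option backward.isDefEq.respectTransparency.types false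
universe u

open CategoryTheory CategoryTheory.Limits MonoidalCategory CartesianMonoidalCategory MonObj AlgebraicGeometry
open Groth.Agent.SGA3cLib Groth.Agent.AbCubeLib Groth.Agent.AlgGrpLib.TorusChars

namespace Groth.Agent.OneMot29

variable {k : Type u} [Field k]

local notation "𝟏" => (𝟙_ (Over (Spec (CommRingCat.of k))))

section Chr

variable {T : Over (Spec (CommRingCat.of k))} [GrpObj T] {r : ℕ}
  (e : T ≅ Red.DS (Spec (CommRingCat.of k)) (Fin r → ℤ)) [IsMonHom e.hom]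

theorem chr_injective {g g' : 𝟏 ⟶ T} (h : ∀ m, chr e m g = chr e m g') : g = g' := by
  rw [← cancel_mono e.hom]
  refine dsFn_injective (MonoidHom.ext fun m => ?_)
  exact (ConcreteCategory.bijective_of_isIso (Scheme.ΓSpecIso (CommRingCat.of k)).hom).1 (h m)

theorem chr_unit (m : Multiplicative (Fin r → ℤ)) (g : 𝟏 ⟶ T) : chr e m g ≠ 0 :=
  ((Group.isUnit g).map (chr e m)).ne_zero

theorem chr_mul (m m' : Multiplicative (Fin r → ℤ)) (g : 𝟏 ⟶ T) :
    chr e (m * m') g = chr e m g * chr e m' g := by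
  show (Scheme.ΓSpecIso (CommRingCat.of k)).hom _ = _
  rw [map_mul]
  exact map_mul (Scheme.ΓSpecIso (CommRingCat.of k)).hom.hom _ _

theorem chr_one (g : 𝟏 ⟶ T) : chr e 1 g = 1 := by
  show (Scheme.ΓSpecIso (CommRingCat.of k)).hom _ = _
  rw [map_one]
  exact map_one (Scheme.ΓSpecIso (CommRingCat.of k)).hom.hom

theorem exists_chr_eq (ψ : Multiplicative (Fin r → ℤ) →* k) : ∃ g : 𝟏 ⟶ T, ∀ m, chr e m g = ψ m := by
  obtain ⟨p, hp⟩ := exists_dsPt (W := 𝟏) (U := Spec (CommRingCat.of k)) (M := Fin r → ℤ)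
    ((Scheme.ΓSpecIso (CommRingCat.of k)).inv.hom.toMonoidHom.comp ψ)
  refine ⟨p ≫ e.inv, fun m => ?_⟩
  show (Scheme.ΓSpecIso (CommRingCat.of k)).hom (dsFn ((p ≫ e.inv) ≫ e.hom) m) = _
  rw [Category.assoc, Iso.inv_hom_id, Category.comp_id, hp]
  exact Iso.inv_hom_id_apply (Scheme.ΓSpecIso (CommRingCat.of k)) (ψ m)

end Chr

variable [IsAlgClosed k]

theorem ev_ne_zero_iff {T : Over (Spec (CommRingCat.of k))} (g : 𝟏 ⟶ T) (f : Γ(T.left, ⊤)) :
    ptOf g ∈ T.left.basicOpen f ↔ ev g f ≠ 0 := by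
  have h : g.left ⁻¹ᵁ T.left.basicOpen f = (Spec (CommRingCat.of k)).basicOpen (g.left.appTop f) :=
    Scheme.preimage_basicOpen g.left f
  change IsLocalRing.closedPoint k ∈ g.left ⁻¹ᵁ T.left.basicOpen f ↔ _
  rw [h, basicOpen_eq_of_affine']
  change ev g f ∉ (IsLocalRing.maximalIdeal k) ↔ _
  rw [IsLocalRing.maximalIdeal_eq_bot, Submodule.mem_bot]

variable {T : Over (Spec (CommRingCat.of k))} [GrpObj T] {r : ℕ}
  (e : T ≅ Red.DS (Spec (CommRingCat.of k)) (Fin r → ℤ)) [IsMonHom e.hom]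

/-- A point killed by every character trivial on a subgroup lies in the closure of that subgroup. -/
theorem mem_closure_of_chr (C : Subgroup (𝟏 ⟶ T)) (t : 𝟏 ⟶ T)
    (h : ∀ m, (∀ c ∈ C, chr e m c = 1) → chr e m t = 1) : ptOf t ∈ closure (ptOf '' (C : Set _)) := by
  classical
  obtain ⟨-, -, haff⟩ := smooth_connected e
  haveI := haff
  by_contra hn
  obtain ⟨_, ⟨_, ⟨f, rfl⟩, rfl⟩, htf, hfsub⟩ := (isBasis_basicOpen T.left).exists_subset_of_mem_open hn isClosed_closure.isOpen_compl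
  have hC : ∀ c ∈ C, ev c f = 0 := fun c hc => by
    by_contra hne
    exact hfsub ((ev_ne_zero_iff c f).2 hne) (subset_closure ⟨c, hc, rfl⟩)
  obtain ⟨s, a, ha⟩ := exists_chr_expansion e f
  let q : Multiplicative (Fin r → ℤ) → (C →* k) := fun m => (chr e m).comp C.subtype
  have hq : ∀ m m', q m = q m' → chr e m t = chr e m' t := by
    intro m m' hmm
    have h1 : chr e (m * m'⁻¹) t = 1 := by
      refine h _ fun c hc => ?_
      have := DFunLike.congr_fun hmm ⟨c, hc⟩
      refine mul_right_cancel₀ (chr_unit e m' c) ?_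
      rw [← chr_mul, inv_mul_cancel_right, _root_.one_mul]
      exact this
    calc chr e m t = chr e (m * m'⁻¹) t * chr e m' t := by rw [← chr_mul, inv_mul_cancel_right]
      _ = chr e m' t := by rw [h1, _root_.one_mul]
  have hzero : ∀ χ ∈ s.image q, ∑ m ∈ s with q m = χ, a m = 0 := by
    refine fun χ hχ => linearIndependent_iff'.1 (linearIndependent_monoidHom C k) (s.image q)
      (fun χ => ∑ m ∈ s with q m = χ, a m) ?_ χ hχ
    funext c
    rw [Finset.sum_apply]
    show ∑ χ ∈ s.image q, (∑ m ∈ s with q m = χ, a m) * χ c = 0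
    calc _ = ∑ χ ∈ s.image q, ∑ m ∈ s with q m = χ, a m * chr e m c.1 := Finset.sum_congr rfl fun χ _ => by
          rw [Finset.sum_mul]
          refine Finset.sum_congr rfl fun m hm => ?_
          rw [← (Finset.mem_filter.1 hm).2]
          rfl
      _ = ev c.1 f := by
          rw [Finset.sum_fiberwise_of_maps_to (fun m hm => Finset.mem_image_of_mem q hm)]
          exact (ha c.1).symm
      _ = 0 := hC c.1 c.2
  refine (ev_ne_zero_iff t f).1 htf ?_
  rw [ha t, ← Finset.sum_fiberwise_of_maps_to (fun m hm => Finset.mem_image_of_mem q hm)]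
  refine Finset.sum_eq_zero fun χ hχ => ?_
  obtain ⟨m₀, hm₀, rfl⟩ := Finset.mem_image.1 hχ
  calc ∑ m ∈ s with q m = q m₀, a m * chr e m t = ∑ m ∈ s with q m = q m₀, a m * chr e m₀ t :=
        Finset.sum_congr rfl fun m hm => by rw [hq m m₀ (Finset.mem_filter.1 hm).2]
    _ = (∑ m ∈ s with q m = q m₀, a m) * chr e m₀ t := (Finset.sum_mul _ _ _).symm
    _ = 0 := by rw [hzero _ hχ, zero_mul]

/-- The weights trivial on a set of points. -/
def weights (C : Subgroup (𝟏 ⟶ T)) : Submodule ℤ (Fin r → ℤ) :=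
  AddSubgroup.toIntSubmodule
  { carrier := {m | ∀ c ∈ C, chr e (Multiplicative.ofAdd m) c = 1}
    zero_mem' := fun c _ => chr_one e c
    add_mem' := fun {m m'} hm hm' c hc => by
      rw [ofAdd_add, chr_mul, hm c hc, hm' c hc, _root_.mul_one]
    neg_mem' := fun {m} hm c hc => by
      refine mul_right_cancel₀ (chr_unit e (Multiplicative.ofAdd m) c) ?_
      rw [← chr_mul, ← ofAdd_add, neg_add_cancel, ofAdd_zero, chr_one, _root_.one_mul, hm c hc] }

variable [CharZero k]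

/-- The finite order point attached to a character of a finite quotient of the weights. -/
theorem exists_point_of_hom {Q : Type*} [AddCommGroup Q] [Finite Q] (p : (Fin r → ℤ) →+ Q) {m₁ : Fin r → ℤ}
    (h : p m₁ ≠ 0) :
    ∃ g : 𝟏 ⟶ T, IsOfFinOrder g ∧ chr e (Multiplicative.ofAdd m₁) g ≠ 1 ∧
      ∀ m, p m = 0 → chr e (Multiplicative.ofAdd m) g = 1 := by
  haveI : NeZero (Monoid.exponent (Multiplicative Q) : k) :=
    ⟨Nat.cast_ne_zero.2 (Monoid.exponent_ne_zero_of_finite (G := Multiplicative Q))⟩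
  obtain ⟨φ, hφ⟩ := CommGroup.exists_apply_ne_one_of_hasEnoughRootsOfUnity (Multiplicative Q) k
    (a := Multiplicative.ofAdd (p m₁)) (fun h' => h (Multiplicative.ofAdd.injective h'))
  obtain ⟨g, hg⟩ := exists_chr_eq e ((Units.coeHom k).comp (φ.comp (AddMonoidHom.toMultiplicative p)))
  refine ⟨g, isOfFinOrder_iff_pow_eq_one.2 ⟨Nat.card (Multiplicative Q), Nat.card_pos, chr_injective e fun m => ?_⟩,
    fun h1 => hφ ?_, fun m hm => ?_⟩
  · rw [map_pow, map_one, hg]
    show ((φ _ : kˣ) : k) ^ _ = 1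
    rw [← Units.val_pow_eq_pow_val, ← map_pow, pow_card_eq_one', map_one, Units.val_one]
  · rw [hg] at h1
    exact Units.ext h1
  · rw [hg]
    show ((φ (Multiplicative.ofAdd (p m)) : kˣ) : k) = 1
    rw [hm, ofAdd_zero, map_one, Units.val_one]

/-- A finite order point separating a proper group of weights. -/
theorem exists_torsion_point (Y : Submodule ℤ (Fin r → ℤ)) {m₀ : Fin r → ℤ} (hm₀ : m₀ ∉ Y) :
    ∃ g : 𝟏 ⟶ T, IsOfFinOrder g ∧ g ≠ 1 ∧ ∀ m ∈ Y, chr e (Multiplicative.ofAdd m) g = 1 := by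
  obtain ⟨Y', hY', hYY', hm'⟩ : ∃ Y' : Submodule ℤ (Fin r → ℤ), IsCoatom Y' ∧ Y ≤ Y' ∧ True := by
    obtain ⟨Y', h1, h2⟩ := (eq_top_or_exists_le_coatom Y).resolve_left (fun h => hm₀ (h ▸ trivial))
    exact ⟨Y', h1, h2, trivial⟩
  let Q := (Fin r → ℤ) ⧸ Y'
  haveI : IsSimpleModule ℤ Q := isSimpleModule_iff_isCoatom.2 hY'
  haveI : Nontrivial Q := IsSimpleModule.nontrivial ℤ Q
  haveI : Finite Q := by
    haveI : AddGroup.FG Q := Module.Finite.iff_addGroup_fg.mp (inferInstanceAs (Module.Finite ℤ ((Fin r → ℤ) ⧸ Y')))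
    refine AddCommGroup.finite_of_fg_isAddTorsion Q fun x => ?_
    by_cases hx : x = 0
    · subst hx; exact IsOfFinAddOrder.zero
    by_cases h2 : (2 : ℤ) • x = 0
    · exact isOfFinAddOrder_iff_zsmul_eq_zero.2 ⟨2, two_ne_zero, h2⟩
    obtain ⟨a, ha⟩ := Submodule.mem_span_singleton.1
      ((IsSimpleModule.span_singleton_eq_top ℤ (m := (2 : ℤ) • x) h2).ge (Submodule.mem_top (x := x)))
    refine isOfFinAddOrder_iff_zsmul_eq_zero.2 ⟨2 * a - 1, by omega, ?_⟩
    rw [sub_smul, one_smul, mul_comm, mul_smul, ha, sub_self]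
  obtain ⟨q, hq⟩ := exists_ne (0 : Q)
  obtain ⟨m₁, rfl⟩ := Submodule.mkQ_surjective Y' q
  obtain ⟨g, h1, h2, h3⟩ := exists_point_of_hom e Y'.mkQ.toAddMonoidHom (m₁ := m₁) hq
  refine ⟨g, h1, fun hg => h2 (by rw [hg, map_one]), fun m hm => h3 m ?_⟩
  exact (Submodule.Quotient.mk_eq_zero Y').2 (hYY' hm)

theorem exists_torsion_chr_ne (m : Multiplicative (Fin r → ℤ)) (hm : m ≠ 1) :
    ∃ g : 𝟏 ⟶ T, IsOfFinOrder g ∧ chr e m g ≠ 1 := by
  obtain ⟨i, hi⟩ : ∃ i, Multiplicative.toAdd m i ≠ 0 := by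
    by_contra h
    push Not at h
    exact hm (Multiplicative.toAdd.injective (funext h))
  let n := (Multiplicative.toAdd m i).natAbs + 1
  obtain ⟨g, h1, h2, -⟩ := exists_point_of_hom e
    ((Int.castAddHom (ZMod n)).comp (Pi.evalAddMonoidHom (fun _ : Fin r => ℤ) i))
    (m₁ := Multiplicative.toAdd m) (fun h => hi (by
      have h' : ((Multiplicative.toAdd m i : ℤ) : ZMod n) = 0 := h
      exact Int.eq_zero_of_abs_lt_dvd ((ZMod.intCast_zmod_eq_zero_iff_dvd _ _).1 h')
        (by rw [Int.abs_eq_natAbs]; omega)))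
  exact ⟨g, h1, h2⟩

include e in
/-- The finite order points are dense. -/
theorem torsion_dense [IsCommMonObj T] : closure (ptOf '' {t : 𝟏 ⟶ T | IsOfFinOrder t}) = Set.univ := by
  obtain ⟨hsm, -, -⟩ := smooth_connected e
  haveI := hsm
  have key : ∀ t : 𝟏 ⟶ T, ptOf t ∈ closure (ptOf '' {t : 𝟏 ⟶ T | IsOfFinOrder t}) := fun t => by
    refine mem_closure_of_chr e (CommGroup.torsion (𝟏 ⟶ T)) t fun m hm => ?_
    by_cases hm1 : m = 1
    · rw [hm1, chr_one]
    obtain ⟨g, hg, hne⟩ := exists_torsion_chr_ne e m hm1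
    exact absurd (hm g hg) hne
  refine Set.eq_univ_of_forall fun x => ?_
  exact range_subset_of_points (𝟙 T) isClosed_closure (fun t => by rw [Category.comp_id]; exact key t) ⟨x, rfl⟩

include e in
/-- A nontrivial subgroup with closed set of points has a nontrivial element of finite order. -/
theorem exists_isOfFinOrder_mem (C : Subgroup (𝟏 ⟶ T))
    (hC : ∀ t : 𝟏 ⟶ T, ptOf t ∈ closure (ptOf '' (C : Set _)) → t ∈ C) {t : 𝟏 ⟶ T} (ht : t ∈ C) (ht1 : t ≠ 1) :
    ∃ c ∈ C, c ≠ 1 ∧ IsOfFinOrder c := by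
  obtain ⟨m₀, hm₀⟩ : ∃ m₀, chr e m₀ t ≠ 1 := by
    by_contra h
    push Not at h
    exact ht1 (chr_injective e fun m => by rw [h m, map_one])
  obtain ⟨g, h1, h2, h3⟩ := exists_torsion_point e (weights e C) (m₀ := Multiplicative.toAdd m₀)
    (fun h => hm₀ (h t ht))
  exact ⟨g, hC g (mem_closure_of_chr e C g fun m hm => h3 (Multiplicative.toAdd m) hm), h2, h1⟩

end Groth.Agent.OneMot29
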