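import Groth.Agent.OneMot29.Ext
import Groth.Agent.OneMot29.Torus
import Groth.Agent.AbCubeLib.DenseTorsion
import Groth.Agent.AlgGrpLib.ImageSubgroup
import Groth.Agent.AlgGrpLib.KernelGrp
import Groth.Agent.SGA3cLib.GeomConn
import Groth.Agent.AbVarLib.GeomIntegralSmooth
import Groth.Agent.AlgGrpLib.HomFlatRed
import Groth.Agent.HopfLib.SchemeCartier
import Mathlib.AlgebraicGeometry.Morphisms.FlatDescent

/-! # Rational points of semi-abelian varieties in characteristic zero -/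

set_option linter.style.haveILetI false
set_option autoImplicit false
set_option backward.isDefEq.respectTransparency.types false
universe u

open CategoryTheory CategoryTheory.Limits MonoidalCategory CartesianMonoidalCategory MonObj AlgebraicGeometry
open Groth.Agent.AbCubeLib

namespace Groth.Agent.OneMot29

variable {k : Type u} [Field k] [IsAlgClosed k]

local notation "𝟏" => (𝟙_ (Over (Spec (CommRingCat.of k))))

theorem exists_point_of_mem_range {X Y : Over (Spec (CommRingCat.of k))} [LocallyOfFiniteType X.hom]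
    [LocallyOfFiniteType Y.hom] (f : X ⟶ Y) (y : 𝟏 ⟶ Y) (hy : ptOf y ∈ Set.range f.left) :
    ∃ x : 𝟏 ⟶ X, x ≫ f = y := by
  have : JacobsonSpace X.left := LocallyOfFiniteType.jacobsonSpace X.hom
  obtain ⟨x₀, hx₀⟩ := hy
  have hc : IsClosed (f.left ⁻¹' {ptOf y}) := (isClosed_point y).preimage f.left.continuous
  obtain ⟨v, hv1, hv⟩ := nonempty_inter_closedPoints (Set.nonempty_of_mem (show x₀ ∈ _ from hx₀)) hc.isLocallyClosed
  obtain ⟨x, rfl⟩ := exists_ptOf (mem_closedPoints_iff.1 hv)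
  exact ⟨x, point_ext hv1⟩

theorem exists_lift_point {X Y : Over (Spec (CommRingCat.of k))} [LocallyOfFiniteType X.hom]
    [LocallyOfFiniteType Y.hom] (f : X ⟶ Y) [Surjective f.left] (y : 𝟏 ⟶ Y) : ∃ x : 𝟏 ⟶ X, x ≫ f = y :=
  exists_point_of_mem_range f y (f.left.surjective _)

theorem mem_range_ptOf {X Y : Over (Spec (CommRingCat.of k))} {f : X ⟶ Y} {x : 𝟏 ⟶ X} {y : 𝟏 ⟶ Y}
    (h : x ≫ f = y) : ptOf y ∈ Set.range f.left :=
  ⟨ptOf x, by rw [← h, AbCubeLib.ptOf_comp]⟩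

/-- The closure of the points of the image of a smooth group consists of points of the image. -/
theorem mem_of_mem_closure {E G : Over (Spec (CommRingCat.of k))} [GrpObj E] [GrpObj G] [Smooth E.hom]
    [QuasiCompact E.hom] [LocallyOfFiniteType G.hom] [QuasiCompact G.hom] (φ : E ⟶ G) [IsMonHom φ] :
    IsClosed (Set.range φ.left) := by
  obtain ⟨M, _, i, g, _, _, hci, hgi, hs, -⟩ := AlgGrpLib.ImageSubgroup.exists_image φ
  haveI := hs
  rw [← hgi, Over.comp_left, Scheme.Hom.comp_base, TopCat.coe_comp, Set.range_comp,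
    g.left.surjective.range_eq, Set.image_univ]
  exact hci.base_closed.isClosed_range

variable {T G A : Over (Spec (CommRingCat.of k))} [GrpObj T] [IsCommMonObj T] [GrpObj G] [IsCommMonObj G]
  [GrpObj A] [IsCommMonObj A] {incl : T ⟶ G} {proj : G ⟶ A} [IsMonHom incl] [IsMonHom proj]

theorem abelian_facts (h : OneMot.IsSemiAbWith T G A incl proj) :
    IsProper A.hom ∧ GeometricallyIntegral A.hom := by
  haveI := h.abelian.proper
  haveI := h.abelian.smooth
  refine ⟨inferInstance, ?_⟩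
  let s : ↥(Spec (CommRingCat.of k)) := IsLocalRing.closedPoint k
  haveI := h.abelian.connectedFibres s
  haveI : Subsingleton ↥(Spec (CommRingCat.of k)) := inferInstanceAs (Subsingleton (PrimeSpectrum k))
  have hsurj : Function.Surjective (A.hom.fiberι s) := fun a => by
    have : a ∈ Set.range (A.hom.fiberι s) := by
      rw [Scheme.Hom.range_fiberι]
      exact Subsingleton.elim (α := ↥(Spec (CommRingCat.of k))) _ _
    exact this
  haveI : ConnectedSpace A.left := hsurj.connectedSpace (A.hom.fiberι s).continuous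
  haveI : GeometricallyConnected A.hom := by
    have := SGA3cLib.geometricallyConnected_of_rational_point k A.hom (𝟙 A.left) (1 : 𝟏 ⟶ A).left (Over.w (1 : 𝟏 ⟶ A))
      (fun x _ => ⟨x, rfl⟩)
    rwa [Category.id_comp] at this
  exact AbVarLib.geometricallyIntegral_of_smooth A.hom

theorem torus_facts (h : OneMot.IsSemiAbWith T G A incl proj) :
    LocallyOfFiniteType T.hom ∧ QuasiCompact T.hom := by
  obtain ⟨r, e, he⟩ := exists_split T h.torus
  obtain ⟨h1, -, h2⟩ := AlgGrpLib.TorusChars.smooth_connected e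
  exact ⟨inferInstance, inferInstance⟩

theorem incl_injective (h : OneMot.IsSemiAbWith T G A incl proj) {a b : 𝟏 ⟶ T} (hab : a ≫ incl = b ≫ incl) :
    a = b := by
  haveI := mono_incl h.shortExact
  exact (cancel_mono incl).1 hab

theorem exists_of_proj_eq_one (h : OneMot.IsSemiAbWith T G A incl proj) {g : 𝟏 ⟶ G} (hg : g ≫ proj = 1) :
    ∃ t : 𝟏 ⟶ T, t ≫ incl = g :=
  AlgGrpLib.exists_lift_kernel (isKernel h.shortExact) hg

/-- The rational points of a semi-abelian variety are divisible. -/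
theorem exists_pow_eq (h : OneMot.IsSemiAbWith T G A incl proj) (g : 𝟏 ⟶ G) {n : ℕ} (hn : 0 < n) :
    ∃ x : 𝟏 ⟶ G, x ^ n = g := by
  obtain ⟨-, -, hs, hl, -⟩ := structure_of_semiAb h
  obtain ⟨_, _⟩ := abelian_facts h
  haveI := hs; haveI := hl
  obtain ⟨r, e, he⟩ := exists_split T h.torus
  obtain ⟨a, ha⟩ := AbCubeLib.exists_pow_eq hn (g ≫ proj)
  obtain ⟨x, hx⟩ := exists_lift_point proj a
  obtain ⟨t, ht⟩ := exists_of_proj_eq_one h (g := g * (x ^ n)⁻¹) (by
    rw [MonObj.mul_comp, GrpObj.inv_comp, AbCubeLib.pow_comp_hom, hx, ha, mul_inv_cancel])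
  obtain ⟨t', ht'⟩ := AlgGrpLib.TorusChars.exists_pow_eq e t n hn.ne'
  refine ⟨(t' ≫ incl) * x, ?_⟩
  rw [mul_pow, ← AbCubeLib.pow_comp_hom, ht', ht, inv_mul_cancel_right]

/-- Torsion points of the abelian quotient lift to torsion points. -/
theorem exists_torsion_lift (h : OneMot.IsSemiAbWith T G A incl proj) {a : 𝟏 ⟶ A} {m : ℕ} (hm : 0 < m)
    (ha : a ^ m = 1) : ∃ g : 𝟏 ⟶ G, g ^ m = 1 ∧ g ≫ proj = a := by
  obtain ⟨-, -, hs, hl, -⟩ := structure_of_semiAb h
  obtain ⟨_, _⟩ := abelian_facts h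
  haveI := hs; haveI := hl
  obtain ⟨r, e, he⟩ := exists_split T h.torus
  obtain ⟨x, hx⟩ := exists_lift_point proj a
  obtain ⟨t, ht⟩ := exists_of_proj_eq_one h (g := x ^ m) (by rw [AbCubeLib.pow_comp_hom, hx, ha])
  obtain ⟨t', ht'⟩ := AlgGrpLib.TorusChars.exists_pow_eq e t m hm.ne'
  refine ⟨x * (t' ≫ incl)⁻¹, ?_, ?_⟩
  · rw [mul_pow, inv_pow, ← AbCubeLib.pow_comp_hom, ht', ht, mul_inv_cancel]
  · rw [MonObj.mul_comp, GrpObj.inv_comp, Category.assoc, h.comp, MonObj.comp_one, inv_one, _root_.mul_one, hx]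

variable {E : Over (Spec (CommRingCat.of k))} [GrpObj E] [Smooth E.hom] [QuasiCompact E.hom]

/-- A homomorphism reaching every torsion point is surjective. -/
theorem surjective_of_torsion [CharZero k] (h : OneMot.IsSemiAbWith T G A incl proj) (φ : E ⟶ G) [IsMonHom φ]
    (hφ : ∀ g : 𝟏 ⟶ G, IsOfFinOrder g → ∃ x : 𝟏 ⟶ E, x ≫ φ = g) : Surjective φ.left := by
  obtain ⟨-, -, hs, hl, hq⟩ := structure_of_semiAb h
  haveI := hs; haveI := hl; haveI := hq
  obtain ⟨_, _⟩ := abelian_facts h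
  obtain ⟨_, _⟩ := torus_facts h
  obtain ⟨r, e, he⟩ := exists_split T h.torus
  have hcl := mem_of_mem_closure φ
  have hT : ∀ t : 𝟏 ⟶ T, ∃ x : 𝟏 ⟶ E, x ≫ φ = t ≫ incl := fun t => by
    refine exists_point_of_mem_range φ _ ?_
    have hsub : closure (ptOf '' {t : 𝟏 ⟶ T | IsOfFinOrder t}) ⊆ incl.left ⁻¹' Set.range φ.left := by
      refine closure_minimal ?_ (hcl.preimage incl.left.continuous)
      rintro _ ⟨s, hs', rfl⟩
      have hs'' : IsOfFinOrder s := hs'
      obtain ⟨n, hn, hsn⟩ := (isOfFinOrder_iff_pow_eq_one (x := s)).1 hs''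
      obtain ⟨x, hx⟩ := hφ (s ≫ incl) (isOfFinOrder_iff_pow_eq_one.2
        ⟨n, hn, by rw [← AbCubeLib.pow_comp_hom, hsn, MonObj.one_comp]⟩)
      exact Set.mem_preimage.2 ((AbCubeLib.ptOf_comp s incl) ▸ mem_range_ptOf hx)
    rw [torsion_dense e] at hsub
    exact (AbCubeLib.ptOf_comp t incl).symm ▸ hsub (Set.mem_univ (ptOf t))
  have hA : ∀ a : 𝟏 ⟶ A, ∃ x : 𝟏 ⟶ E, x ≫ φ ≫ proj = a := fun a => by
    refine exists_point_of_mem_range (φ ≫ proj) _ ?_
    have hd := closure_eq_univ_of_powTors_le Nat.prime_two (k := k) (A := A) (by norm_num) (powTors A 2) le_rfl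
    have hsub : closure (ptOf '' (SetLike.coe (powTors A 2))) ⊆ Set.range (φ ≫ proj).left := by
      refine closure_minimal ?_ (mem_of_mem_closure (φ ≫ proj))
      rintro _ ⟨b, ⟨n, hn⟩, rfl⟩
      obtain ⟨g, hg, hgb⟩ := exists_torsion_lift h (a := b) (m := 2 ^ n) (by positivity) ((AbDual.mem_torsPts A _).1 hn)
      obtain ⟨x, hx⟩ := hφ g (isOfFinOrder_iff_pow_eq_one.2 ⟨2 ^ n, by positivity, hg⟩)
      exact mem_range_ptOf (show x ≫ φ ≫ proj = b by rw [← Category.assoc, hx, hgb])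
    exact hsub (hd.ge (Set.mem_univ (ptOf a)))
  refine ⟨fun y => ?_⟩
  refine range_subset_of_points (𝟙 G) hcl (fun g => ?_) ⟨y, rfl⟩
  obtain ⟨x, hx⟩ := hA (g ≫ proj)
  obtain ⟨t, ht⟩ := exists_of_proj_eq_one h (g := g * (x ≫ φ)⁻¹) (by
    rw [MonObj.mul_comp, GrpObj.inv_comp, Category.assoc, hx, mul_inv_cancel])
  obtain ⟨x', hx'⟩ := hT t
  refine mem_range_ptOf (x := x' * x) ?_
  rw [MonObj.mul_comp, hx', ht, inv_mul_cancel_right, Category.comp_id]

/-- A homomorphism whose image has no torsion kills every point. -/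
theorem points_eq_one [CharZero k] (h : OneMot.IsSemiAbWith T G A incl proj) (φ : E ⟶ G) [IsMonHom φ]
    (hφ : ∀ x : 𝟏 ⟶ E, IsOfFinOrder (x ≫ φ) → x ≫ φ = 1) (x : 𝟏 ⟶ E) : x ≫ φ = 1 := by
  obtain ⟨-, -, hs, hl, hq⟩ := structure_of_semiAb h
  haveI := hs; haveI := hl; haveI := hq
  obtain ⟨_, _⟩ := abelian_facts h
  obtain ⟨_, _⟩ := torus_facts h
  obtain ⟨r, e, he⟩ := exists_split T h.torus
  let Φ : (𝟏 ⟶ E) →* (𝟏 ⟶ G) := ⟨⟨fun y => y ≫ φ, MonObj.one_comp φ⟩, fun a b => MonObj.mul_comp a b φ⟩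
  let J : (𝟏 ⟶ T) →* (𝟏 ⟶ G) := ⟨⟨fun y => y ≫ incl, MonObj.one_comp incl⟩, fun a b => MonObj.mul_comp a b incl⟩
  let π : (𝟏 ⟶ G) →* (𝟏 ⟶ A) := ⟨⟨fun y => y ≫ proj, MonObj.one_comp proj⟩, fun a b => MonObj.mul_comp a b proj⟩
  have hker : ∀ g ∈ Φ.range, π g = 1 → g = 1 := by
    rintro g hg hgp
    obtain ⟨t, ht⟩ := exists_of_proj_eq_one h (g := g) hgp
    have htC : t ∈ Φ.range.comap J := by
      show t ≫ incl ∈ Φ.range
      rw [ht]; exact hg
    by_contra hg1
    have ht1 : t ≠ 1 := by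
      rintro rfl
      exact hg1 (ht.symm.trans (MonObj.one_comp incl))
    obtain ⟨c, ⟨y, hy⟩, hc1, hcf⟩ := exists_isOfFinOrder_mem e (Φ.range.comap J) (fun s hs' => by
      have hsub : closure (ptOf '' ((Φ.range.comap J : Subgroup _) : Set (𝟏 ⟶ T))) ⊆ incl.left ⁻¹' Set.range φ.left :=
        closure_minimal (by
          rintro _ ⟨c, ⟨y, hy⟩, rfl⟩
          exact Set.mem_preimage.2 ((AbCubeLib.ptOf_comp c incl) ▸ mem_range_ptOf (show y ≫ φ = c ≫ incl from hy)))
          ((mem_of_mem_closure φ).preimage incl.left.continuous)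
      obtain ⟨y, hy⟩ := exists_point_of_mem_range φ (s ≫ incl) ((AbCubeLib.ptOf_comp s incl).symm ▸ hsub hs')
      exact ⟨y, hy⟩) htC ht1
    obtain ⟨n, hn, hcn⟩ := isOfFinOrder_iff_pow_eq_one.1 hcf
    have hy' : y ≫ φ = c ≫ incl := hy
    have := hφ y (isOfFinOrder_iff_pow_eq_one.2
      ⟨n, hn, by rw [hy', ← AbCubeLib.pow_comp_hom, hcn, MonObj.one_comp]⟩)
    exact hc1 (incl_injective h (by rw [MonObj.one_comp, ← hy', this]))
  let P : Subgroup (𝟏 ⟶ A) := Φ.range.map π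
  have hPtf : ∀ a ∈ P, IsOfFinOrder a → a = 1 := by
    rintro _ ⟨g, hg, rfl⟩ hf
    obtain ⟨n, hn, hgn⟩ := isOfFinOrder_iff_pow_eq_one.1 hf
    have := hker (g ^ n) (pow_mem hg n) (by rw [map_pow, hgn])
    obtain ⟨y, rfl⟩ := hg
    rw [show Φ y = 1 from hφ y (isOfFinOrder_iff_pow_eq_one.2 ⟨n, hn, this⟩), map_one]
  have hPc : ∀ a : 𝟏 ⟶ A, ptOf a ∈ closure (ptOf '' (P : Set _)) → a ∈ P := fun a ha => by
    have hsub : closure (ptOf '' (P : Set (𝟏 ⟶ A))) ⊆ Set.range (φ ≫ proj).left := closure_minimal (by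
      rintro _ ⟨_, ⟨_, ⟨y, rfl⟩, rfl⟩, rfl⟩
      exact mem_range_ptOf (Category.assoc y φ proj).symm) (mem_of_mem_closure (φ ≫ proj))
    obtain ⟨y, hy⟩ := exists_point_of_mem_range (φ ≫ proj) a (hsub ha)
    exact ⟨Φ y, ⟨y, rfl⟩, (Category.assoc y φ proj).trans hy⟩
  obtain ⟨B, _, i, H₁, _, hci, hgi, hp, hH₁, hind, hrg⟩ := exists_subvariety_of_subgroup P
  haveI := hci; haveI := hgi; haveI := hp
  have : IsCommMonObj B := isCommMonObj_of_isProper_of_geometricallyIntegral B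
  haveI : Mono i.left := inferInstance
  haveI : Mono i := (Over.forget _).mono_of_mono_map (inferInstanceAs (Mono i.left))
  have hBP : ∀ b : 𝟏 ⟶ B, b ≫ i ∈ P := fun b =>
    hPc _ (closure_mono (Set.image_mono hH₁) (hrg.subset ((AbCubeLib.ptOf_comp b i).symm ▸ Set.mem_range_self _)))
  have hB := closure_eq_univ_of_powTors_le Nat.prime_two (k := k) (A := B) (by norm_num) ⊥ (by
    rintro b ⟨n, hn⟩
    rw [Subgroup.mem_bot, ← cancel_mono i, MonObj.one_comp]
    exact hPtf _ (hBP b) (isOfFinOrder_iff_pow_eq_one.2 ⟨2 ^ n, by positivity, by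
      rw [← AbCubeLib.pow_comp_hom, (AbDual.mem_torsPts B _).1 hn, MonObj.one_comp]⟩))
  rw [Subgroup.coe_bot, Set.image_singleton, (isClosed_point (1 : 𝟏 ⟶ B)).closure_eq] at hB
  have hH1bot : H₁ = ⊥ := eq_bot_iff.2 fun a ha => Subgroup.mem_bot.2 (point_ext (by
    obtain ⟨b, hb⟩ : ptOf a ∈ Set.range i.left := hrg.ge (subset_closure ⟨a, ha, rfl⟩)
    have hb1 : b = ptOf (1 : 𝟏 ⟶ B) := hB.ge (Set.mem_univ b)
    show ptOf a = ptOf (1 : 𝟏 ⟶ A)
    rw [← hb, hb1, ← AbCubeLib.ptOf_comp, MonObj.one_comp]))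
  rw [hH1bot, Subgroup.bot_subgroupOf, Subgroup.index_bot] at hind
  haveI : Finite P := Nat.finite_of_card_ne_zero hind
  have h1 : π (Φ x) ∈ P := ⟨Φ x, ⟨x, rfl⟩, rfl⟩
  have h2 : (⟨π (Φ x), h1⟩ : P) ^ Nat.card P = 1 := pow_card_eq_one'
  have h3 : π (Φ x) = 1 := hPtf _ h1 (isOfFinOrder_iff_pow_eq_one.2
    ⟨Nat.card P, Nat.card_pos, by simpa only [SubmonoidClass.coe_pow, OneMemClass.coe_one] using congrArg Subtype.val h2⟩)
  have h4 : Φ x = 1 := hker (Φ x) (MonoidHom.mem_range.2 ⟨x, rfl⟩) h3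
  exact h4

omit [GrpObj T] [IsCommMonObj T] [GrpObj G] [IsCommMonObj G] [GrpObj A] [IsCommMonObj A] in
/-- Kernels are smooth subgroups in characteristic zero. -/
theorem exists_kernel [CharZero k] {X Y : Over (Spec (CommRingCat.of k))} [GrpObj X] [GrpObj Y]
    [LocallyOfFiniteType X.hom] [QuasiCompact X.hom] (f : X ⟶ Y) [IsMonHom f] :
    ∃ (K : Over (Spec (CommRingCat.of k))) (_ : GrpObj K) (i : K ⟶ X), IsMonHom i ∧ IsClosedImmersion i.left ∧
      Smooth K.hom ∧ QuasiCompact K.hom ∧ AlgGrp.IsKernel i f := by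
  let K : Over (Spec (CommRingCat.of k)) := pullback f η[Y]
  let i : K ⟶ X := pullback.fst f η[Y]
  have hk : AlgGrp.IsKernel i f := by
    have h := IsPullback.of_hasPullback f η[Y]
    rwa [toUnit_unique (pullback.snd f η[Y]) (toUnit K)] at h
  obtain ⟨_, hi⟩ := AlgGrpLib.exists_grpObj_kernel f i hk
  haveI : IsSeparated Y.hom := SGA3xLib.isSeparated_of_grpObj Y
  haveI : IsClosedImmersion η[Y].left := SGA3xLib.isClosedImmersion_of_section Y.hom _ (Over.w η[Y])
  haveI hci : IsClosedImmersion i.left := MorphismProperty.of_isPullback (P := @IsClosedImmersion)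
    (hk.map (Over.forget _)).flip (inferInstanceAs (IsClosedImmersion η[Y].left))
  haveI : LocallyOfFiniteType K.hom := by rw [← Over.w i]; infer_instance
  refine ⟨K, _, i, hi, hci, HopfLib.smooth_of_grpObj K, ?_, hk⟩
  rw [← Over.w i]; infer_instance

omit [GrpObj T] [IsCommMonObj T] [GrpObj G] [IsCommMonObj G] [GrpObj A] [IsCommMonObj A] in
/-- A homomorphism of algebraic groups bijective on rational points is an isomorphism. -/
theorem isIso_of_bijective [CharZero k] {X Y : Over (Spec (CommRingCat.of k))} [GrpObj X] [GrpObj Y]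
    [LocallyOfFiniteType X.hom] [QuasiCompact X.hom] [LocallyOfFiniteType Y.hom] [QuasiCompact Y.hom]
    (f : X ⟶ Y) [IsMonHom f] [Surjective f.left] (hinj : ∀ x : 𝟏 ⟶ X, x ≫ f = 1 → x = 1) : IsIso f := by
  haveI : Smooth Y.hom := HopfLib.smooth_of_grpObj Y
  haveI : IsReduced Y.left := AbSchLib.isReduced_of_smooth Y.hom
  haveI : Flat f.left := AlgGrpLib.flat_hom_of_surjective_algClosed f
  haveI : QuasiCompact f.left := AlgGrpLib.quasiCompact_left f
  obtain ⟨K, _, i, _, _, _, _, hk⟩ := exists_kernel f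
  haveI : IsReduced K.left := AbSchLib.isReduced_of_smooth K.hom
  haveI hiso : IsIso (η[K]) := by
    haveI : IsSeparated K.hom := SGA3xLib.isSeparated_of_grpObj K
    haveI : IsClosedImmersion η[K].left := SGA3xLib.isClosedImmersion_of_section K.hom _ (Over.w η[K])
    refine AlgGrpLib.PointsDense.isIso_of_points_algClosed k k K (𝟙_ _) η[K] fun y => ⟨toUnit _, ?_⟩
    let u : 𝟏 ⟶ AlgGrpLib.PointsDense.spK k k := Over.homMk (𝟙 _) (by simp)
    have hu : toUnit (AlgGrpLib.PointsDense.spK k k) ≫ u = 𝟙 _ := by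
      apply Over.OverMorphism.ext
      show (toUnit (AlgGrpLib.PointsDense.spK k k)).left ≫ 𝟙 _ = 𝟙 _
      rw [Category.comp_id]
      simpa using Over.w (toUnit (AlgGrpLib.PointsDense.spK k k))
    haveI : Mono i := AlgGrpLib.kernel_mono hk
    have h0 : u ≫ y = 1 := by
      rw [← cancel_mono i, MonObj.one_comp, Category.assoc]
      refine hinj _ ?_
      rw [Category.assoc, Category.assoc, AlgGrpLib.kernel_comp hk, MonObj.comp_one, MonObj.comp_one]
    rw [← Category.id_comp y, ← hu, Category.assoc, h0, Hom.one_def, toUnit_unique (toUnit 𝟏) (𝟙 _),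
      Category.id_comp]
  have hmono : Mono f := ⟨fun {Z} a b hab => by
    obtain ⟨c, hc⟩ := AlgGrpLib.exists_lift_kernel hk (g := a * b⁻¹) (by
      rw [MonObj.mul_comp, GrpObj.inv_comp, hab, mul_inv_cancel])
    have hc1 : c = 1 := by
      rw [← Category.comp_id c, ← IsIso.inv_hom_id η[K], ← Category.assoc, toUnit_unique (c ≫ inv η[K]) (toUnit Z),
        Hom.one_def]
    rw [hc1, MonObj.one_comp] at hc
    exact mul_inv_eq_one.1 hc.symm⟩
  haveI : Mono f.left := (Over.forget _).map_mono f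
  have hsq : IsPullback (𝟙 X.left) (𝟙 X.left) f.left f.left := IsPullback.of_horiz_isIso_mono ⟨rfl⟩
  have : IsIso f.left := MorphismProperty.of_isPullback_of_descendsAlong (P := MorphismProperty.isomorphisms Scheme.{u})
    (Q := @Surjective ⊓ @Flat ⊓ @QuasiCompact) hsq ⟨⟨inferInstance, inferInstance⟩, inferInstance⟩
    (inferInstanceAs (IsIso (𝟙 X.left)))
  haveI : IsIso ((Over.forget (Spec (CommRingCat.of k))).map f) := this
  exact isIso_of_reflects_iso f (Over.forget _)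

end Groth.Agent.OneMot29
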